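import Groth.Agent.SmClLiftLib.Main
import Mathlib.RingTheory.Etale.Kaehler
import Mathlib.LinearAlgebra.Dimension.Finite

/-!
# The global lift
-/

set_option autoImplicit false
set_option linter.style.haveILetI false
set_option backward.isDefEq.respectTransparency false
universe u

open CategoryTheory CategoryTheory.Limits AlgebraicGeometry TopologicalSpace Opposite
open scoped TensorProduct

noncomputable section

namespace SmClLiftLib

variable {X₁ X₂ Z₁ Z₂ : Scheme.{u}} (i₁ : Z₁ ⟶ X₁) (i₂ : Z₂ ⟶ X₂)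
  [IsClosedImmersion i₁] [IsClosedImmersion i₂]
  (f : X₂ ⟶ X₁) (g : Z₂ ⟶ Z₁) (n e : ℕ)
  [SmoothOfRelativeDimension n f] [SmoothOfRelativeDimension e g]
  (hsq : i₂ ≫ f = g ≫ i₁) (V : X₂.Opens) (hV : IsAffineOpen V)

include hsq hV in
/-- At a point of the closed subscheme, the differentials of the ideal have dimension `n - e`, with a basis
coming from the ideal over `V`. -/
theorem exists_basis_at_point (U₁ : X₁.Opens) (hU₁ : IsAffineOpen U₁) (U₂ : X₂.Opens) (hU₂ : IsAffineOpen U₂)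
    (h2V : U₂ ≤ V) (e12 : U₂ ≤ f ⁻¹ᵁ U₁) (t : X₂) (ht : t ∈ U₂) (htr : t ∈ Set.range i₂.base) :
    letI := (f.appLE U₁ U₂ e12).hom.toAlgebra
    ∃ h : Fin (n - e) → Γ(X₂, V), (∀ j, h j ∈ RingHom.ker (i₂.app V).hom) ∧
      LinearIndependent (hU₂.primeIdealOf ⟨t, ht⟩).asIdeal.ResidueField (fun j =>
        dV Γ(X₁, U₁) (hU₂.primeIdealOf ⟨t, ht⟩).asIdeal.ResidueField (X₂.presheaf.map (homOfLE h2V).op (h j))) ∧
      Module.finrank (hU₂.primeIdealOf ⟨t, ht⟩).asIdeal.ResidueField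
        (Submodule.span (hU₂.primeIdealOf ⟨t, ht⟩).asIdeal.ResidueField
          (dV Γ(X₁, U₁) (hU₂.primeIdealOf ⟨t, ht⟩).asIdeal.ResidueField ''
            (RingHom.ker (i₂.app U₂).hom : Set Γ(X₂, U₂)))) = n - e := by
  let A := Γ(X₁, U₁)
  let B := Γ(X₂, U₂)
  have eZ : i₂ ⁻¹ᵁ U₂ ≤ g ⁻¹ᵁ (i₁ ⁻¹ᵁ U₁) := fun z hz => by
    show (g ≫ i₁).base z ∈ U₁
    rw [← hsq]
    exact e12 hz
  let A' := Γ(Z₁, i₁ ⁻¹ᵁ U₁)
  let C := Γ(Z₂, i₂ ⁻¹ᵁ U₂)
  letI : Algebra A B := (f.appLE U₁ U₂ e12).hom.toAlgebra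
  letI : Algebra A A' := (i₁.app U₁).hom.toAlgebra
  letI : Algebra A' C := (g.appLE (i₁ ⁻¹ᵁ U₁) (i₂ ⁻¹ᵁ U₂) eZ).hom.toAlgebra
  letI : Algebra B C := (i₂.app U₂).hom.toAlgebra
  letI : Algebra A C := ((algebraMap A' C).comp (algebraMap A A')).toAlgebra
  haveI : IsScalarTower A A' C := IsScalarTower.of_algebraMap_eq fun _ => rfl
  have hcomm : f.appLE U₁ U₂ e12 ≫ i₂.app U₂ = i₁.app U₁ ≫ g.appLE (i₁ ⁻¹ᵁ U₁) (i₂ ⁻¹ᵁ U₂) eZ := by
    rw [Scheme.Hom.app_eq_appLE, Scheme.Hom.app_eq_appLE, Scheme.Hom.appLE_comp_appLE,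
      Scheme.Hom.appLE_comp_appLE]
    congr 1
  haveI : IsScalarTower A B C := IsScalarTower.of_algebraMap_eq' (congrArg CommRingCat.Hom.hom hcomm).symm
  haveI : Smooth f := SmoothOfRelativeDimension.smooth n f
  haveI : Algebra.Smooth A B := f.smooth_appLE hU₁ hU₂ e12
  have hA : Function.Surjective (algebraMap A A') := i₁.app_surjective U₁ hU₁
  have hB : Function.Surjective (algebraMap B C) := i₂.app_surjective U₂ hU₂
  let q := (hU₂.primeIdealOf ⟨t, ht⟩).asIdeal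
  let K := q.ResidueField
  have hq : RingHom.ker (algebraMap B C) ≤ q := fun x hx => by
    rw [BlowRegLib.mem_primeIdealOf_iff]
    intro hxt
    obtain ⟨z, rfl⟩ := htr
    have hz : z ∈ i₂ ⁻¹ᵁ X₂.basicOpen x := hxt
    rw [Scheme.preimage_basicOpen, show i₂.app U₂ x = 0 from hx, Scheme.basicOpen_zero] at hz
    exact hz
  letI : Algebra C K := ((algebraMap B C).liftOfSurjective hB
    ⟨algebraMap B K, fun x hx => Ideal.algebraMap_residueField_eq_zero.mpr (hq hx)⟩).toAlgebra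
  haveI : IsScalarTower B C K := IsScalarTower.of_algebraMap_eq fun b =>
    (RingHom.liftOfRightInverse_comp_apply (algebraMap B C) (Function.surjInv hB) (Function.rightInverse_surjInv hB)
      ⟨algebraMap B K, fun x hx => Ideal.algebraMap_residueField_eq_zero.mpr (hq hx)⟩ b).symm
  have hn : Module.finrank K (K ⊗[B] Ω[B⁄A]) = n := finrank_of_locally K n
    (HasRingHomProperty.appLE (P := @SmoothOfRelativeDimension n) f ‹_› ⟨U₁, hU₁⟩ ⟨U₂, hU₂⟩ e12)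
  have he : Module.finrank K (K ⊗[C] Ω[C⁄A']) = e := finrank_of_locally K e
    (HasRingHomProperty.appLE (P := @SmoothOfRelativeDimension e) g ‹_›
      ⟨i₁ ⁻¹ᵁ U₁, hU₁.preimage i₁⟩ ⟨i₂ ⁻¹ᵁ U₂, hU₂.preimage i₂⟩ eZ)
  have hdim := finrank_span_dV_add hA hB K n e hn he
  let ρ := X₂.presheaf.map (homOfLE h2V).op
  have hG : Ideal.span (ρ.hom '' (RingHom.ker (i₂.app V).hom : Set Γ(X₂, V))) = RingHom.ker (algebraMap B C) := by
    show Ideal.map ρ.hom (RingHom.ker (i₂.app V).hom) = RingHom.ker (i₂.app U₂).hom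
    rw [← Scheme.Hom.ker_apply i₂ ⟨U₂, hU₂⟩, ← Scheme.Hom.ker_apply i₂ ⟨V, hV⟩,
      ← i₂.ker.map_ideal (U := ⟨U₂, hU₂⟩) (V := ⟨V, hV⟩) h2V]
    rfl
  have hspan := span_dV_eq (A := A) K (RingHom.ker (algebraMap B C))
    (fun x hx => Ideal.algebraMap_residueField_eq_zero.mpr (hq hx)) _ hG
  obtain ⟨b, hbsub, hbspan, hbli⟩ := exists_linearIndependent K
    (dV A K '' (ρ.hom '' (RingHom.ker (i₂.app V).hom : Set Γ(X₂, V))))
  haveI : Finite b := hbli.finite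
  haveI := Fintype.ofFinite b
  have hdim' : Module.finrank K (Submodule.span K (dV A K '' (RingHom.ker (algebraMap B C) : Set B))) = n - e :=
    Nat.eq_sub_of_add_eq hdim
  have hcard : Fintype.card b = n - e := by
    have h1 := finrank_span_eq_card hbli
    rw [Subtype.range_coe, hbspan, hspan] at h1
    exact h1.symm.trans hdim'
  have hsel : ∀ x : b, ∃ y ∈ RingHom.ker (i₂.app V).hom, dV A K (ρ.hom y) = (x : K ⊗[B] Ω[B⁄A]) := fun x => by
    obtain ⟨_, ⟨y, hy, rfl⟩, hyx⟩ := hbsub x.2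
    exact ⟨y, hy, hyx⟩
  choose y hy hyx using hsel
  let σ : Fin (n - e) ≃ b := (finCongr hcard.symm).trans (Fintype.equivFin b).symm
  refine ⟨fun j => y (σ j), fun j => hy _, ?_, ?_⟩
  · have h1 := hbli.comp σ σ.injective
    have h2 : (fun j => dV A K (ρ.hom (y (σ j)))) = Subtype.val ∘ σ := funext fun j => hyx (σ j)
    show LinearIndependent K (fun j => dV A K (ρ.hom (y (σ j))))
    rw [h2]
    exact h1
  · exact hdim'

include hV in
theorem mem_range_of_le_primeIdealOf (t : X₂) (ht : t ∈ V)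
    (h : RingHom.ker (i₂.app V).hom ≤ (hV.primeIdealOf ⟨t, ht⟩).asIdeal) : t ∈ Set.range i₂.base := by
  have h1 : t ∈ i₂.ker.support := by
    rw [Scheme.IdealSheafData.mem_support_iff_of_mem (U := ⟨V, hV⟩) ht, Scheme.mem_zeroLocus_iff]
    intro x hx
    refine (BlowRegLib.mem_primeIdealOf_iff hV ht x).mp (h ?_)
    have hx' : x ∈ i₂.ker.ideal ⟨V, hV⟩ := hx
    rwa [Scheme.Hom.ker_apply] at hx'
  have h2 : t ∈ (i₂.ker.support : Set X₂) := h1
  rw [Scheme.Hom.support_ker, (IsClosedImmersion.base_closed (f := i₂)).isClosed_range.closure_eq] at h2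
  exact h2

include hsq in
/-- A family of sections of the ideal over `V` which cuts out a smooth lift near every point of `T`. -/
theorem exists_family (T : Set X₂) (hT : T.Finite) (hTV : T ⊆ (V : Set X₂))
    (hcase : e < n ∨ T ⊆ Set.range i₂.base) :
    ∃ h : Fin (n - e) → Γ(X₂, V), (∀ j, h j ∈ RingHom.ker (i₂.app V).hom) ∧
      ∀ t ∈ T, ∃ D : X₂.Opens, t ∈ D ∧ IsAffineOpen D ∧
        ∃ hDV : D ≤ V, SmoothOn f V hV h hDV ∧ EqOn i₁ i₂ f V hV h hDV := by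
  classical
  let S := hT.toFinset
  let J := RingHom.ker (i₂.app V).hom
  let P : S → Ideal Γ(X₂, V) := fun t =>
    (hV.primeIdealOf ⟨t.1, hTV (hT.mem_toFinset.mp t.2)⟩).asIdeal
  let S₁ : Finset (Ideal Γ(X₂, V)) := (Finset.univ.filter fun t : S => t.1 ∈ Set.range i₂.base).image P
  let S₀ : Finset (Ideal Γ(X₂, V)) := (Finset.univ.filter fun t : S => t.1 ∉ Set.range i₂.base).image P
  obtain ⟨M, hMS, hM, hSM⟩ := exists_antichain S₁
  have hprime : ∀ Q ∈ M, Q.IsPrime := fun Q hQ => by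
    obtain ⟨t, -, rfl⟩ := Finset.mem_image.mp (hMS hQ)
    exact (hV.primeIdealOf _).isPrime
  have hpt : ∀ Q ∈ M, ∃ t : X₂, t ∈ Set.range i₂.base ∧ ∃ ht : t ∈ V,
      (hV.primeIdealOf ⟨t, ht⟩).asIdeal = Q := fun Q hQ => by
    obtain ⟨t, ht, rfl⟩ := Finset.mem_image.mp (hMS hQ)
    exact ⟨t.1, (Finset.mem_filter.mp ht).2, _, rfl⟩
  choose pt hptr hptV hptP using hpt
  have hch : ∀ Q (hQ : Q ∈ M), ∃ (U₁ : X₁.Opens) (_ : IsAffineOpen U₁) (U₂ : X₂.Opens) (_ : IsAffineOpen U₂)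
      (_ : U₂ ≤ V) (_ : U₂ ≤ f ⁻¹ᵁ U₁), pt Q hQ ∈ U₂ := fun Q hQ => by
    obtain ⟨_, ⟨U₁, hU₁, rfl⟩, h1, -⟩ :=
      X₁.isBasis_affineOpens.exists_subset_of_mem_open (Set.mem_univ (f (pt Q hQ))) isOpen_univ
    obtain ⟨_, ⟨U₂, hU₂, rfl⟩, h2, h2le⟩ := X₂.isBasis_affineOpens.exists_subset_of_mem_open
      (show pt Q hQ ∈ V ⊓ f ⁻¹ᵁ U₁ from ⟨hptV Q hQ, h1⟩) (V ⊓ f ⁻¹ᵁ U₁).isOpen
    exact ⟨U₁, hU₁, U₂, hU₂, fun z hz => (h2le hz).1, fun z hz => (h2le hz).2, h2⟩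
  choose U₁ hU₁ U₂ hU₂ h2V e12 hptU using hch
  have hb := fun Q hQ => exists_basis_at_point i₁ i₂ f g n e hsq V hV (U₁ Q hQ) (hU₁ Q hQ) (U₂ Q hQ)
    (hU₂ Q hQ) (h2V Q hQ) (e12 Q hQ) (pt Q hQ) (hptU Q hQ) (hptr Q hQ)
  choose hb hbJ hbli hbrk using hb
  have hsep := fun Q (hQ : Q ∈ M) => exists_separating M hprime hM ⊤ hQ
    (fun h => (hprime Q hQ).ne_top (top_le_iff.mp h))
  choose c _ hcP hcQ using hsep
  let h₀ : Fin (n - e) → Γ(X₂, V) := fun j => ∑ Q : M, c Q.1 Q.2 * hb Q.1 Q.2 j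
  have hh₀ : ∀ j, h₀ j ∈ J := fun j => J.sum_mem fun Q _ => J.mul_mem_left _ (hbJ Q.1 Q.2 j)
  -- keep away from the points outside the closed subscheme
  have hJS₀ : ∀ Q ∈ S₀, Q.IsPrime ∧ ¬ J * J ≤ Q := fun Q hQ => by
    obtain ⟨t, ht, rfl⟩ := Finset.mem_image.mp hQ
    have hp : (P t).IsPrime := (hV.primeIdealOf _).isPrime
    refine ⟨hp, fun hle => (Finset.mem_filter.mp ht).2 ?_⟩
    exact mem_range_of_le_primeIdealOf i₂ V hV _ _ ((hp.mul_le.mp hle).elim id id)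
  have hδ : ∃ δ : Fin (n - e) → Γ(X₂, V), (∀ j, δ j ∈ J * J) ∧
      ∀ (j : Fin (n - e)), (j : ℕ) = 0 → ∀ Q ∈ S₀, h₀ j + δ j ∉ Q := by
    have h1 := fun j => exists_add_notMem S₀ (fun Q hQ => (hJS₀ Q hQ).1) (J * J) (fun Q hQ => (hJS₀ Q hQ).2) (h₀ j)
    choose δ hδ₁ hδ₂ using h1
    exact ⟨δ, hδ₁, fun j _ => hδ₂ j⟩
  obtain ⟨δ, hδJ, hδS⟩ := hδ
  let h := fun j => h₀ j + δ j
  have hh : ∀ j, h j ∈ J := fun j => J.add_mem (hh₀ j) (Ideal.mul_le_left (hδJ j))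
  refine ⟨h, hh, fun t htT => ?_⟩
  haveI : Smooth f := SmoothOfRelativeDimension.smooth n f
  haveI : Smooth g := SmoothOfRelativeDimension.smooth e g
  by_cases htr : t ∈ Set.range i₂.base
  · have htS : P ⟨t, hT.mem_toFinset.mpr htT⟩ ∈ S₁ :=
      Finset.mem_image.mpr ⟨_, Finset.mem_filter.mpr ⟨Finset.mem_univ _, htr⟩, rfl⟩
    obtain ⟨Q, hQ, hle⟩ := hSM _ htS
    let p := pt Q hQ
    let qf := ((hU₂ Q hQ).primeIdealOf ⟨p, hptU Q hQ⟩).asIdeal
    let ρ := X₂.presheaf.map (homOfLE (h2V Q hQ)).op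
    letI : Algebra Γ(X₁, U₁ Q hQ) Γ(X₂, U₂ Q hQ) := (f.appLE (U₁ Q hQ) (U₂ Q hQ) (e12 Q hQ)).hom.toAlgebra
    let K := qf.ResidueField
    haveI : Algebra.Smooth Γ(X₁, U₁ Q hQ) Γ(X₂, U₂ Q hQ) := f.smooth_appLE (hU₁ Q hQ) (hU₂ Q hQ) (e12 Q hQ)
    have hρ : ∀ x, ρ.hom x ∈ qf ↔ x ∈ Q := fun x => by
      rw [BlowRegLib.mem_primeIdealOf_iff]
      conv_rhs => rw [← hptP Q hQ, BlowRegLib.mem_primeIdealOf_iff]
      refine not_congr ?_
      show p ∈ X₂.basicOpen (X₂.presheaf.map (homOfLE (h2V Q hQ)).op x) ↔ p ∈ X₂.basicOpen x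
      rw [Scheme.basicOpen_res]
      exact ⟨fun hx => hx.2, fun hx => ⟨hptU Q hQ, hx⟩⟩
    have hJ0 : ∀ x ∈ J, algebraMap Γ(X₂, U₂ Q hQ) K (ρ.hom x) = 0 := fun x hx => by
      refine Ideal.algebraMap_residueField_eq_zero.mpr ((hρ x).mpr ?_)
      rw [← hptP Q hQ, BlowRegLib.mem_primeIdealOf_iff]
      intro hxt
      obtain ⟨z, hz⟩ := hptr Q hQ
      have hz' : z ∈ i₂ ⁻¹ᵁ X₂.basicOpen x := by
        show i₂.base z ∈ X₂.basicOpen x
        rw [hz]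
        exact hxt
      rw [Scheme.preimage_basicOpen, show i₂.app V x = 0 from hx, Scheme.basicOpen_zero] at hz'
      exact hz'
    let d : Γ(X₂, V) →+ K ⊗[Γ(X₂, U₂ Q hQ)] Ω[Γ(X₂, U₂ Q hQ)⁄Γ(X₁, U₁ Q hQ)] :=
      AddMonoidHom.mk' (fun x => dV Γ(X₁, U₁ Q hQ) K (ρ.hom x)) fun a b => by
        simp only [map_add, dV, TensorProduct.tmul_add]
    have hdsmul : ∀ a x, x ∈ J → d (a * x) = algebraMap _ K (ρ.hom a) • d x := fun a x hx => by
      show dV _ K (ρ.hom (a * x)) = _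
      rw [map_mul]
      exact dV_mul_of_eq_zero _ K _ _ (hJ0 x hx)
    have hdδ : ∀ x ∈ J * J, d x = 0 := by
      intro x hx
      exact Submodule.mul_induction_on hx (fun a ha b hb => by rw [hdsmul a b hb, hJ0 a ha, zero_smul])
        (fun a b ha hb => by rw [map_add, ha, hb, add_zero])
    have hval : ∀ j, d (h j) = algebraMap _ K (ρ.hom (c Q hQ)) • d (hb Q hQ j) := fun j => by
      show d (h₀ j + δ j) = _
      rw [map_add, hdδ _ (hδJ j), add_zero, map_sum, Finset.sum_eq_single (⟨Q, hQ⟩ : M)]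
      · exact hdsmul _ _ (hbJ Q hQ j)
      · intro R _ hR
        rw [hdsmul _ _ (hbJ R.1 R.2 j), Ideal.algebraMap_residueField_eq_zero.mpr
          ((hρ _).mpr (hcQ R.1 R.2 Q hQ fun he => hR (Subtype.ext he.symm))), zero_smul]
      · exact fun h => absurd (Finset.mem_univ _) h
    have hu : algebraMap _ K (ρ.hom (c Q hQ)) ≠ 0 := fun h0 =>
      hcP Q hQ ((hρ _).mp (Ideal.algebraMap_residueField_eq_zero.mp h0))
    have hli : LinearIndependent K fun j => d (h j) := by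
      rw [funext hval]
      exact (hbli Q hQ).units_smul fun _ => Units.mk0 _ hu
    have hW : Submodule.span K (Set.range fun j => d (h j)) = Submodule.span K
        (dV Γ(X₁, U₁ Q hQ) K '' (RingHom.ker (i₂.app (U₂ Q hQ)).hom : Set Γ(X₂, U₂ Q hQ))) := by
      refine Submodule.eq_of_le_of_finrank_eq (Submodule.span_le.mpr ?_) ?_
      · rintro _ ⟨j, rfl⟩
        refine Submodule.subset_span ⟨ρ.hom (h j), ?_, rfl⟩
        have h1 : ρ.hom (h j) ∈ i₂.ker.ideal ⟨U₂ Q hQ, hU₂ Q hQ⟩ := by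
          rw [← i₂.ker.map_ideal (U := ⟨U₂ Q hQ, hU₂ Q hQ⟩) (V := ⟨V, hV⟩) (h2V Q hQ)]
          refine Ideal.mem_map_of_mem _ ?_
          rw [Scheme.Hom.ker_apply]
          exact hh j
        rwa [Scheme.Hom.ker_apply] at h1
      · rw [finrank_span_eq_card hli, Fintype.card_fin]
        exact (hbrk Q hQ).symm
    obtain ⟨D, hpD, hD, hDV, hgood⟩ := good_at_point i₁ i₂ f g V hsq hV h hh (U₁ Q hQ) (hU₁ Q hQ) (U₂ Q hQ)
      (hU₂ Q hQ) (h2V Q hQ) (e12 Q hQ) p (hptU Q hQ) (hptr Q hQ) hli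
      (fun x hx => hW.ge (Submodule.subset_span ⟨x, hx, rfl⟩))
    refine ⟨D, ?_, hD, hDV, hgood⟩
    have hsp : t ⤳ p := by
      have h1 := ((PrimeSpectrum.le_iff_specializes _ _).mp
        (show hV.primeIdealOf ⟨t, hTV htT⟩ ≤ hV.primeIdealOf ⟨p, hptV Q hQ⟩ from
          hle.trans (hptP Q hQ).ge)).map hV.fromSpec.continuous
      rwa [hV.fromSpec_primeIdealOf, hV.fromSpec_primeIdealOf] at h1
    exact hsp.mem_open D.isOpen hpD
  · have hpos : 0 < n - e := Nat.sub_pos_of_lt (hcase.resolve_right fun h' => htr (h' htT))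
    let j : Fin (n - e) := ⟨0, hpos⟩
    refine ⟨X₂.basicOpen (h j), ?_, hV.basicOpen _, _, good_basicOpen i₁ i₂ f V hV h hh j⟩
    by_contra hcon
    exact hδS j rfl _ (Finset.mem_image.mpr
      ⟨⟨t, hT.mem_toFinset.mpr htT⟩, Finset.mem_filter.mpr ⟨Finset.mem_univ _, htr⟩, rfl⟩)
      ((BlowRegLib.mem_primeIdealOf_iff hV (hTV htT) _).mpr hcon)

include hsq in
/-- **The smooth lift near a finite set of points.** -/
theorem exists_smooth_lift (T : Set X₂) (hT : T.Finite) (hTV : T ⊆ (V : Set X₂)) (hV' : IsAffineOpen V)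
    (hcase : e < n ∨ T ⊆ Set.range i₂.base) :
    ∃ U : X₂.Opens, T ⊆ (U : Set X₂) ∧
      ∃ (W : Scheme.{u}) (k : W ⟶ (U : Scheme.{u}))
        (m : ((i₂ ⁻¹ᵁ U : Z₂.Opens) : Scheme.{u}) ⟶ W),
        IsClosedImmersion k ∧ m ≫ k = i₂ ∣_ U ∧ AlgebraicGeometry.Smooth (k ≫ U.ι ≫ f) ∧
          IsPullback m ((i₂ ⁻¹ᵁ U).ι ≫ g) (k ≫ U.ι ≫ f) i₁ := by
  obtain ⟨h, hh, hgood⟩ := exists_family i₁ i₂ f g n e hsq V hV' T hT hTV hcase
  choose D htD hD hDV hsm heq using fun t : T => hgood t.1 t.2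
  let U : X₂.Opens := ⨆ t, D t
  have hUV : U ≤ V := iSup_le hDV
  have hDU : ∀ t, D t ≤ U := fun t => le_iSup D t
  let d : ∀ t, (D t : Scheme.{u}) ⟶ (U : Scheme.{u}) := fun t => X₂.homOfLE (hDU t)
  haveI : ∀ t, IsAffine (D t : Scheme.{u}) := hD
  have hcov : ∀ x : (U : Scheme.{u}), ∃ t, x ∈ Set.range (d t).base := fun x => by
    obtain ⟨t, ht⟩ := TopologicalSpace.Opens.mem_iSup.mp x.2
    exact ⟨t, ⟨x.1, ht⟩, Subtype.ext (Scheme.homOfLE_apply _ _)⟩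
  let H := (hSheaf V hV' h).comap (X₂.homOfLE hUV)
  have hcomap : ∀ t, H.comap (d t) = (hSheaf V hV' h).comap (X₂.homOfLE (hDV t)) := fun t => by
    rw [← Scheme.IdealSheafData.comap_comp, Scheme.homOfLE_homOfLE]
  have hj : (i₂ ∣_ U).ker = i₂.ker.comap U.ι := ker_of_isPullback (isPullback_morphismRestrict i₂ U)
  have hkey : (i₂ ∣_ U).ker = H ⊔ i₁.ker.comap (U.ι ≫ f) := by
    refine idealSheaf_ext d hcov _ _ fun t => ?_
    rw [hj, Scheme.IdealSheafData.comap_sup, hcomap, ← Scheme.IdealSheafData.comap_comp,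
      ← Scheme.IdealSheafData.comap_comp, Scheme.homOfLE_ι, Scheme.homOfLE_ι_assoc]
    exact heq t
  haveI : IsClosedImmersion (i₂ ∣_ U) :=
    IsZariskiLocalAtTarget.restrict (P := @IsClosedImmersion) ‹_› U
  let k := H.subschemeι
  have hle : k.ker ≤ (i₂ ∣_ U).ker := by
    rw [Scheme.IdealSheafData.ker_subschemeι, hkey]
    exact le_sup_left
  let m := IsClosedImmersion.lift k (i₂ ∣_ U) hle
  have hmk : m ≫ k = i₂ ∣_ U := IsClosedImmersion.lift_fac _ _ _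
  haveI : IsClosedImmersion (m ≫ k) := hmk ▸ ‹IsClosedImmersion (i₂ ∣_ U)›
  haveI : IsClosedImmersion m := IsClosedImmersion.of_comp m k
  refine ⟨U, fun t ht => TopologicalSpace.Opens.mem_iSup.mpr ⟨⟨t, ht⟩, htD ⟨t, ht⟩⟩, H.subscheme, k, m,
    inferInstance, hmk, ?_, ?_⟩
  · let 𝒰 : (U : Scheme.{u}).OpenCover := Scheme.Cover.mkOfCovers T (fun t => (D t : Scheme.{u})) d
      (fun x => by obtain ⟨t, y, hy⟩ := hcov x; exact ⟨t, y, hy⟩) (fun t => by infer_instance)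
    rw [IsZariskiLocalAtSource.iff_of_openCover (P := @Smooth) (𝒰.pullback₁ k)]
    intro (t : T)
    show Smooth (pullback.fst k (d t) ≫ k ≫ U.ι ≫ f)
    have h1 : pullback.fst k (d t) ≫ k ≫ U.ι ≫ f =
        ((pullbackSymmetry k (d t)).hom ≫ (H.comapIso (d t)).inv) ≫
          ((H.comap (d t)).subschemeι ≫ (D t).ι ≫ f) := by
      rw [pullback.condition_assoc, Category.assoc, ← Category.assoc (H.comapIso (d t)).inv,
        Scheme.IdealSheafData.comapIso_inv_subschemeι, ← Category.assoc (pullbackSymmetry k (d t)).hom,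
        pullbackSymmetry_hom_comp_fst, Scheme.homOfLE_ι_assoc]
    rw [h1]
    haveI : Smooth ((H.comap (d t)).subschemeι ≫ (D t).ι ≫ f) :=
      Eq.subst (motive := fun I : (D t : Scheme.{u}).IdealSheafData => Smooth (I.subschemeι ≫ (D t).ι ≫ f))
        (hcomap t).symm (hsm t)
    infer_instance
  · refine isPullback_of_isClosedImmersion m i₁ ((i₂ ⁻¹ᵁ U).ι ≫ g) (k ≫ U.ι ≫ f) ?_ ?_
    · rw [← Category.assoc m k, hmk, morphismRestrict_ι_assoc, hsq, Category.assoc]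
    · rw [ker_of_isPullback (isPullback_of_mono hmk), hkey, Scheme.IdealSheafData.comap_sup]
      have h0 : H.comap k = ⊥ := by
        rw [← le_bot_iff, ← Scheme.IdealSheafData.le_map_iff_comap_le, Scheme.IdealSheafData.map_bot,
          Scheme.IdealSheafData.ker_subschemeι]
      rw [h0, bot_sup_eq, Scheme.IdealSheafData.comap_comp]

end SmClLiftLib
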