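import Groth.Agent.Unram17Lib.SmoothCartier
import Mathlib.RingTheory.Smooth.StandardSmoothCotangent
import Mathlib.RingTheory.RingHom.Locally
import Mathlib.RingTheory.RingHom.StandardSmooth

/-!
# Algebra for lifting a smooth closed subscheme to a smooth one
-/

set_option autoImplicit false
set_option linter.style.haveILetI false
universe u
open TensorProduct

noncomputable section

namespace SmClLiftLib

/-- The differential of an element, evaluated in a field. -/
abbrev dV (A : Type u) {B : Type u} [CommRing A] [CommRing B] [Algebra A B] (K : Type u) [Field K]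
    [Algebra B K] (b : B) : K ⊗[B] Ω[B⁄A] :=
  (1 : K) ⊗ₜ[B] KaehlerDifferential.D A B b

theorem dV_add (A : Type u) {B : Type u} [CommRing A] [CommRing B] [Algebra A B] (K : Type u) [Field K]
    [Algebra B K] (a b : B) : dV A K (a + b) = dV A K a + dV A K b := by
  simp [dV, tmul_add]

theorem dV_mul_of_eq_zero (A : Type u) {B : Type u} [CommRing A] [CommRing B] [Algebra A B] (K : Type u)
    [Field K] [Algebra B K] (a x : B) (hx : algebraMap B K x = 0) :
    dV A K (a * x) = algebraMap B K a • dV A K x := by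
  rw [dV, Derivation.leibniz, tmul_add, tmul_smul, tmul_smul, ← algebraMap_smul K x, hx, zero_smul,
    add_zero, algebraMap_smul]

theorem dV_mul_self_eq_zero (A : Type u) {B : Type u} [CommRing A] [CommRing B] [Algebra A B] (K : Type u)
    [Field K] [Algebra B K] (a x : B) (ha : algebraMap B K a = 0) (hx : algebraMap B K x = 0) :
    dV A K (a * x) = 0 := by
  rw [dV_mul_of_eq_zero A K a x hx, ha, zero_smul]

/-- At a point of a locally standard smooth algebra of relative dimension `n`, the differentials have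
dimension `n`. -/
theorem finrank_of_locally {A C : Type u} [CommRing A] [CommRing C] [Algebra A C] (K : Type u) [Field K]
    [Algebra C K] (n : ℕ)
    (h : RingHom.Locally (RingHom.IsStandardSmoothOfRelativeDimension n) (algebraMap A C)) :
    Module.finrank K (K ⊗[C] Ω[C⁄A]) = n := by
  obtain ⟨s, hs, hP⟩ := h
  obtain ⟨r, hrs, hr⟩ : ∃ r ∈ s, algebraMap C K r ≠ 0 := by
    by_contra hcon
    push Not at hcon
    have h1 : Ideal.span s ≤ RingHom.ker (algebraMap C K) := Ideal.span_le.mpr hcon
    rw [hs, top_le_iff] at h1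
    exact one_ne_zero ((map_one (algebraMap C K)).symm.trans
      (RingHom.mem_ker.mp (h1.ge (Submodule.mem_top : (1 : C) ∈ (⊤ : Ideal C)))))
  let Cr := Localization.Away r
  have h2 : RingHom.IsStandardSmoothOfRelativeDimension n (algebraMap A Cr) := by
    rw [IsScalarTower.algebraMap_eq A C Cr]
    exact hP r hrs
  haveI : Algebra.IsStandardSmoothOfRelativeDimension n A Cr :=
    RingHom.isStandardSmoothOfRelativeDimension_algebraMap n |>.mp h2
  letI : Algebra Cr K := (IsLocalization.Away.lift (S := Cr) r (g := algebraMap C K) (IsUnit.mk0 _ hr)).toAlgebra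
  haveI : IsScalarTower C Cr K := IsScalarTower.of_algebraMap_eq fun c =>
    (IsLocalization.Away.lift_eq r (IsUnit.mk0 _ hr) c).symm
  haveI : Nontrivial Cr := (algebraMap Cr K).domain_nontrivial
  haveI : Algebra.IsStandardSmooth A Cr := Algebra.IsStandardSmoothOfRelativeDimension.isStandardSmooth n
  haveI : Algebra.FormallyEtale C Cr := Algebra.FormallyEtale.of_isLocalization (Submonoid.powers r)
  let e : K ⊗[C] Ω[C⁄A] ≃ₗ[K] K ⊗[Cr] Ω[Cr⁄A] :=
    (AlgebraTensorModule.cancelBaseChange C Cr K K Ω[C⁄A]).symm ≪≫ₗ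
      AlgebraTensorModule.congr (LinearEquiv.refl K K) (KaehlerDifferential.tensorKaehlerEquivOfFormallyEtale A C Cr)
  rw [e.finrank_eq, Module.finrank_baseChange]
  exact Module.finrank_eq_of_rank_eq
    (Algebra.IsStandardSmoothOfRelativeDimension.rank_kaehlerDifferential n)

/-- The differentials of the ideal of a closed subscheme span the kernel of the restriction to it. -/
theorem finrank_span_dV_add {A A' B C : Type u} [CommRing A] [CommRing A'] [CommRing B] [CommRing C]
    [Algebra A A'] [Algebra A B] [Algebra A C] [Algebra A' C] [Algebra B C] [IsScalarTower A A' C]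
    [IsScalarTower A B C] (hA : Function.Surjective (algebraMap A A'))
    (hB : Function.Surjective (algebraMap B C))
    (K : Type u) [Field K] [Algebra B K] [Algebra C K] [IsScalarTower B C K]
    [Module.Finite K (K ⊗[B] Ω[B⁄A])]
    (n e : ℕ) (hn : Module.finrank K (K ⊗[B] Ω[B⁄A]) = n)
    (he : Module.finrank K (K ⊗[C] Ω[C⁄A']) = e) :
    Module.finrank K (Submodule.span K (dV A K '' (RingHom.ker (algebraMap B C) : Set B))) + e = n := by
  classical
  let J := RingHom.ker (algebraMap B C)
  haveI : Subsingleton Ω[A'⁄A] := KaehlerDifferential.subsingleton_of_surjective A A' hA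
  let μ : Ω[C⁄A] →ₗ[C] Ω[C⁄A'] := KaehlerDifferential.map A A' C C
  have hμs : Function.Surjective μ := KaehlerDifferential.map_surjective A A' C
  have hμi : Function.Injective μ := by
    refine (injective_iff_map_eq_zero μ).mpr fun x hx => ?_
    obtain ⟨y, rfl⟩ := (KaehlerDifferential.exact_mapBaseChange_map A A' C x).mp hx
    rw [Subsingleton.elim y 0, map_zero]
  let ψ : C ⊗[B] Ω[B⁄A] →ₗ[C] Ω[C⁄A'] := μ.comp (KaehlerDifferential.mapBaseChange A B C)
  have hψ : Function.Surjective ψ := hμs.comp (KaehlerDifferential.mapBaseChange_surjective A B C hB)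
  let g : J → C ⊗[B] Ω[B⁄A] := fun x => 1 ⊗ₜ KaehlerDifferential.D A B x.1
  let N : Submodule C (C ⊗[B] Ω[B⁄A]) := Submodule.span C (Set.range g)
  have hex : Function.Exact N.subtype ψ := by
    rw [LinearMap.exact_iff, Submodule.range_subtype]
    refine le_antisymm (fun z hz => ?_) (Submodule.span_le.mpr ?_)
    · have hz' : KaehlerDifferential.mapBaseChange A B C z = 0 := hμi (by rw [map_zero]; exact hz)
      obtain ⟨w, rfl⟩ := (KaehlerDifferential.exact_kerCotangentToTensor_mapBaseChange A B C hB z).mp hz'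
      obtain ⟨w, rfl⟩ := Ideal.toCotangent_surjective _ w
      rw [KaehlerDifferential.kerCotangentToTensor_toCotangent]
      exact Submodule.subset_span ⟨w, rfl⟩
    · rintro _ ⟨⟨x, hx⟩, rfl⟩
      show μ (KaehlerDifferential.mapBaseChange A B C ((1 : C) ⊗ₜ KaehlerDifferential.D A B x)) = 0
      rw [KaehlerDifferential.mapBaseChange_tmul, one_smul, KaehlerDifferential.map_D,
        RingHom.mem_ker.mp hx, map_zero, map_zero]
  let c : K ⊗[C] (C ⊗[B] Ω[B⁄A]) ≃ₗ[K] K ⊗[B] Ω[B⁄A] :=
    AlgebraTensorModule.cancelBaseChange B C K K Ω[B⁄A]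
  let φ : K ⊗[B] Ω[B⁄A] →ₗ[K] K ⊗[C] Ω[C⁄A'] := (ψ.baseChange K).comp c.symm.toLinearMap
  have hφs : Function.Surjective φ := by
    intro z
    obtain ⟨w, rfl⟩ := LinearMap.lTensor_surjective K hψ z
    exact ⟨c w, by simp [φ, LinearMap.baseChange_eq_ltensor]⟩
  have hker : LinearMap.ker φ = Submodule.span K (dV A K '' (J : Set B)) := by
    refine le_antisymm (fun z hz => ?_) (Submodule.span_le.mpr ?_)
    · have hz' : ψ.lTensor K (c.symm z) = 0 := by
        rw [← LinearMap.baseChange_eq_ltensor]
        exact hz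
      have hexT := lTensor_exact (R := C) (M := N) (N := C ⊗[B] Ω[B⁄A]) (P := Ω[C⁄A']) (f := N.subtype) (g := ψ) K hex hψ
      obtain ⟨w, hw⟩ := (hexT _).mp hz'
      rw [← c.apply_symm_apply z, ← hw]
      clear hw hz' hz
      induction w using TensorProduct.induction_on with
      | zero => simp
      | add a b ha hb => rw [map_add, map_add]; exact add_mem ha hb
      | tmul k y =>
        obtain ⟨y, hy⟩ := y
        rw [LinearMap.lTensor_tmul, Submodule.subtype_apply]
        have hgen : ∀ y ∈ N, ∀ k : K, c (k ⊗ₜ[C] y) ∈ Submodule.span K (dV A K '' (J : Set B)) := by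
          intro y hy
          induction hy using Submodule.span_induction with
          | mem y hy =>
            intro k
            obtain ⟨⟨x, hx⟩, rfl⟩ := hy
            have h1 : c (k ⊗ₜ[C] g ⟨x, hx⟩) = k • dV A K x := by
              simp [c, g, dV, smul_tmul']
            rw [h1]
            exact Submodule.smul_mem _ _ (Submodule.subset_span ⟨x, hx, rfl⟩)
          | zero => intro k; simp
          | add a b _ _ ha hb => intro k; rw [tmul_add, map_add]; exact add_mem (ha k) (hb k)
          | smul r a _ ha =>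
            intro k
            rw [← TensorProduct.smul_tmul]
            exact ha _
        exact hgen y hy k
    · rintro _ ⟨x, hx, rfl⟩
      show φ (dV A K x) = 0
      have h1 : c.symm (dV A K x) = (1 : K) ⊗ₜ[C] g ⟨x, hx⟩ := by
        rw [LinearEquiv.symm_apply_eq]
        simp [c, g, dV]
      show ψ.baseChange K (c.symm (dV A K x)) = 0
      rw [h1, LinearMap.baseChange_tmul]
      have h2 : ψ (g ⟨x, hx⟩) = 0 := hex.apply_apply_eq_zero ⟨_, Submodule.subset_span ⟨⟨x, hx⟩, rfl⟩⟩
      rw [h2, tmul_zero]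
  have hrange : LinearMap.range φ = ⊤ := LinearMap.range_eq_top.mpr hφs
  rw [← hn, ← he, ← hker, ← φ.finrank_range_add_finrank_ker, hrange, finrank_top, add_comm]

variable {A B : Type u} [CommRing A] [CommRing B] [Algebra A B]

theorem span_dV_eq (K : Type u) [Field K] [Algebra B K] (J : Ideal B) (hJK : ∀ x ∈ J, algebraMap B K x = 0)
    (G : Set B) (hG : Ideal.span G = J) :
    Submodule.span K (dV A K '' G) = Submodule.span K (dV A K '' (J : Set B)) := by
  subst hG
  refine le_antisymm (Submodule.span_mono (Set.image_mono Ideal.subset_span)) (Submodule.span_le.mpr ?_)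
  rintro _ ⟨x, hx, rfl⟩
  induction hx using Submodule.span_induction with
  | mem x hx => exact Submodule.subset_span ⟨x, hx, rfl⟩
  | zero => simp [dV]
  | add a b _ _ ha hb => rw [dV_add]; exact add_mem ha hb
  | smul c a hmem ha =>
    rw [smul_eq_mul, dV_mul_of_eq_zero A K c a (hJK a hmem)]
    exact Submodule.smul_mem _ _ ha

/-- Elements with independent differentials cut out a smooth subscheme near the point. -/
theorem exists_smooth_quotient_span_range [Algebra.FinitePresentation A B] (q : Ideal B) [q.IsPrime]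
    [Algebra.IsSmoothAt A q] (r : ℕ) (b : Fin r → B)
    (hdb : LinearIndependent q.ResidueField fun i => dV A q.ResidueField (b i)) :
    ∃ f : B, f ∉ q ∧ Algebra.Smooth A (Localization.Away f ⧸
      Ideal.span (Set.range fun i => algebraMap B (Localization.Away f) (b i))) := by
  obtain ⟨f, hf, m, g', het, -⟩ := Unram17Lib.exists_etale_coordinates_of_linearIndependent A B
    (Ideal.span (Set.range b)) ⟨(Set.finite_range b).toFinset, by simp⟩ q r b
    (fun i => Ideal.subset_span (Set.mem_range_self i))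
    (by rw [Ideal.map_span, ← Set.range_comp]; rfl) hdb
  let P := MvPolynomial (Fin r ⊕ Fin m) A
  let L := Localization.Away f
  let π : P →ₐ[A] L := MvPolynomial.aeval (Sum.elim (fun i => algebraMap B L (b i)) g')
  letI : Algebra P L := π.toRingHom.toAlgebra
  haveI : IsScalarTower A P L := IsScalarTower.of_algebraMap_eq fun a => (π.commutes a).symm
  haveI : Algebra.Etale P L := RingHom.etale_algebraMap.mp het
  let I : Ideal P := Ideal.span (Set.range fun i : Fin r => (MvPolynomial.X (Sum.inl i) : P))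
  have hIL : I.map (algebraMap P L) = Ideal.span (Set.range fun i => algebraMap B L (b i)) := by
    rw [Ideal.map_span, ← Set.range_comp]
    congr 2
    funext i
    exact MvPolynomial.aeval_X _ _
  refine ⟨f, hf, ?_⟩
  rw [← hIL]
  haveI : Algebra.Smooth A (P ⧸ I) :=
    haveI : Algebra.Smooth A (MvPolynomial (Fin m) A) := ⟨inferInstance, inferInstance⟩
    Algebra.Smooth.of_equiv (Unram17Lib.quotientVarsEquiv A r m).symm
  haveI : Algebra.Etale (P ⧸ I) ((P ⧸ I) ⊗[P] L) := inferInstance
  haveI : Algebra.Etale (P ⧸ I) (L ⧸ I.map (algebraMap P L)) :=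
    Algebra.Etale.of_equiv (A := (P ⧸ I) ⊗[P] L) (Algebra.TensorProduct.quotIdealMapEquivQuotTensor L I).symm
  haveI : IsScalarTower A (P ⧸ I) (L ⧸ I.map (algebraMap P L)) :=
    IsScalarTower.of_algebraMap_eq (R := A) (S := P ⧸ I) (A := L ⧸ I.map (algebraMap P L)) fun a => by
    rw [IsScalarTower.algebraMap_apply A L (L ⧸ I.map (algebraMap P L)), IsScalarTower.algebraMap_apply A P L]
    rfl
  exact Algebra.Smooth.comp A (P ⧸ I) _

theorem ker_includeRight_le {A' : Type u} [CommRing A'] [Algebra A A']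
    (hA : Function.Surjective (algebraMap A A')) (x : B)
    (hx : (1 : A') ⊗ₜ[A] x = (0 : A' ⊗[A] B)) :
    x ∈ (RingHom.ker (algebraMap A A')).map (algebraMap A B) := by
  let IB := (RingHom.ker (algebraMap A A')).map (algebraMap A B)
  have hk : RingHom.ker (Algebra.ofId A A') ≤ RingHom.ker (Algebra.ofId A (B ⧸ IB)) := fun a ha => by
    show algebraMap A (B ⧸ IB) a = 0
    rw [IsScalarTower.algebraMap_apply A B (B ⧸ IB), Ideal.Quotient.algebraMap_eq,
      Ideal.Quotient.eq_zero_iff_mem]
    exact Ideal.mem_map_of_mem _ ha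
  let φ : A' →ₐ[A] B ⧸ IB := AlgHom.liftOfSurjective (Algebra.ofId A A') hA (Algebra.ofId A (B ⧸ IB)) hk
  let Ψ : A' ⊗[A] B →ₐ[A] B ⧸ IB :=
    Algebra.TensorProduct.lift φ (Ideal.Quotient.mkₐ A IB) fun _ _ => Commute.all _ _
  have h : Ψ ((1 : A') ⊗ₜ[A] x) = Ideal.Quotient.mk IB x := by simp [Ψ]
  rw [hx, map_zero] at h
  exact Ideal.Quotient.eq_zero_iff_mem.mp h.symm

/-- **The key computation**: elements of the ideal of a smooth closed subscheme whose differentials form a
basis generate it, up to the ideal of the base. -/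
theorem exists_mul_mem_span_sup [Algebra.FinitePresentation A B] [Algebra.Smooth A B]
    {A' C : Type u} [CommRing A'] [CommRing C] [Algebra A A'] [Algebra A C] [Algebra A' C] [Algebra B C]
    [IsScalarTower A A' C] [IsScalarTower A B C]
    (hA : Function.Surjective (algebraMap A A')) (hB : Function.Surjective (algebraMap B C))
    [Algebra.Smooth A' C] (q : Ideal B) [q.IsPrime] (hq : RingHom.ker (algebraMap B C) ≤ q)
    {r : ℕ} (h : Fin r → B) (hh : ∀ i, h i ∈ RingHom.ker (algebraMap B C))
    (hW : ∀ x ∈ RingHom.ker (algebraMap B C),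
      dV A q.ResidueField x ∈ Submodule.span q.ResidueField (Set.range fun i => dV A q.ResidueField (h i))) :
    ∃ b ∉ q, ∀ x ∈ RingHom.ker (algebraMap B C),
      b * x ∈ Ideal.span (Set.range h) ⊔ (RingHom.ker (algebraMap A A')).map (algebraMap A B) := by
  classical
  let J := RingHom.ker (algebraMap B C)
  let IB := (RingHom.ker (algebraMap A A')).map (algebraMap A B)
  let H := Ideal.span (Set.range h) ⊔ IB
  let Bb := A' ⊗[A] B
  let incl : B →ₐ[A] Bb := Algebra.TensorProduct.includeRight
  have hincl : Function.Surjective incl := Algebra.TensorProduct.includeRight_surjective B hA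
  letI : Algebra B Bb := incl.toRingHom.toAlgebra
  haveI : IsScalarTower A B Bb := IsScalarTower.of_algebraMap_eq fun a => (incl.commutes a).symm
  let π : Bb →ₐ[A'] C :=
    Algebra.TensorProduct.lift (Algebra.ofId A' C) (IsScalarTower.toAlgHom A B C) fun _ _ => Commute.all _ _
  have hπi : ∀ x : B, π (incl x) = algebraMap B C x := fun x => by
    show π ((1 : A') ⊗ₜ[A] x) = _
    rw [Algebra.TensorProduct.lift_tmul, map_one, one_mul]
    rfl
  have hπ : Function.Surjective π := fun z => by
    obtain ⟨x, rfl⟩ := hB z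
    exact ⟨incl x, hπi x⟩
  have hJfg : (RingHom.ker π.toRingHom).FG := Algebra.FinitePresentation.ker_fG_of_surjective π hπ
  let e : (Bb ⧸ RingHom.ker π.toRingHom) ≃ₐ[A'] C := Ideal.quotientKerAlgEquivOfSurjective hπ
  haveI : Algebra.Smooth A' (Bb ⧸ RingHom.ker π.toRingHom) := Algebra.Smooth.of_equiv e.symm
  let K := q.ResidueField
  let Jb := RingHom.ker π.toRingHom
  -- the prime of the quotient
  have hker' : ∀ x : B, Ideal.Quotient.mk Jb (incl x) = 0 ↔ x ∈ J := fun x => by
    rw [Ideal.Quotient.eq_zero_iff_mem]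
    show π (incl x) = 0 ↔ _
    rw [hπi]
    rfl
  let P : Ideal (Bb ⧸ Jb) := q.map ((Ideal.Quotient.mk Jb).comp incl.toRingHom)
  have hsurj : Function.Surjective ((Ideal.Quotient.mk Jb).comp incl.toRingHom) :=
    Ideal.Quotient.mk_surjective.comp hincl
  have hkq : RingHom.ker ((Ideal.Quotient.mk Jb).comp incl.toRingHom) ≤ q := fun x hx =>
    hq ((hker' x).mp hx)
  haveI : P.IsPrime := Ideal.map_isPrime_of_surjective hsurj hkq
  let qb : Ideal Bb := P.comap (Ideal.Quotient.mk Jb)
  have hqb : ∀ x : B, incl x ∈ qb ↔ x ∈ q := fun x => by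
    have h1 := Ideal.comap_map_of_surjective _ hsurj q
    rw [← RingHom.ker_eq_comap_bot, sup_eq_left.mpr hkq] at h1
    exact Iff.of_eq (congrArg (fun I : Ideal B => x ∈ I) h1)
  haveI : Algebra.IsSmoothAt A' qb := inferInstance
  haveI : Algebra.EssFiniteType A' (Localization.AtPrime qb) :=
    haveI : Algebra.EssFiniteType Bb (Localization.AtPrime qb) :=
      Algebra.EssFiniteType.of_isLocalization _ qb.primeCompl
    Algebra.EssFiniteType.comp A' Bb _
  haveI : Algebra.FormallySmooth A' (Localization.AtPrime qb) := ‹Algebra.IsSmoothAt A' qb›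
  haveI : Algebra.IsSmoothAt A' P := inferInstance
  obtain ⟨s, hsJ, hsgen, hsli⟩ := (Unram17Lib.isSmoothAt_quotient_iff A' Bb Jb hJfg P).mp ‹_›
  choose σ hσ using hincl
  -- comparison of the differentials
  let K' := qb.ResidueField
  let κ : K →+* K' := Ideal.ResidueField.map q qb incl.toRingHom (Ideal.ext fun x => (hqb x).symm)
  let κl : K →ₗ[B] K' :=
    { toFun := κ, map_add' := map_add κ, map_smul' := fun b k => by
        simp only [RingHom.id_apply]
        rw [Algebra.smul_def b k, map_mul, Algebra.smul_def b (κ k)]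
        congr 1
        exact Ideal.ResidueField.map_algebraMap q qb incl.toRingHom (Ideal.ext fun x => (hqb x).symm) b }
  let Φ : K ⊗[B] Ω[B⁄A] →ₗ[B] K' ⊗[Bb] Ω[Bb⁄A'] :=
    ((TensorProduct.mapOfCompatibleSMul Bb B Bb K' Ω[Bb⁄A']).restrictScalars B).comp
      (TensorProduct.map κl (KaehlerDifferential.map A A' B Bb))
  have hΦ : ∀ x : B, Φ (dV A K x) = (1 : K') ⊗ₜ[Bb] KaehlerDifferential.D A' Bb (incl x) := fun x => by
    simp only [Φ, dV, LinearMap.coe_comp, LinearMap.coe_restrictScalars, Function.comp_apply,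
      TensorProduct.map_tmul, TensorProduct.mapOfCompatibleSMul_tmul, KaehlerDifferential.map_D]
    simp [κl, RingHom.algebraMap_toAlgebra]
  have hJK : ∀ x ∈ J, algebraMap B K x = 0 := fun x hx => Ideal.algebraMap_residueField_eq_zero.mpr (hq hx)
  let N : Ideal B := Ideal.span ((fun z => σ z) '' (s : Set Bb))
  have hσJ : ∀ z ∈ s, σ z ∈ J := fun z hz => by
    have h1 : π z = 0 := hsJ hz
    rw [RingHom.mem_ker, ← hπi, hσ, h1]
  have hNJ : N ≤ J := Ideal.span_le.mpr (by rintro _ ⟨z, hz, rfl⟩; exact hσJ z hz)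
  -- the ideal is generated at the point by the lifts
  have hgenJ : ∀ x ∈ J, ∃ t ∉ q, ∃ a : Bb → B, t * x - ∑ z ∈ s, a z * σ z ∈ IB := by
    intro x hx
    have hx' : algebraMap Bb (Localization.AtPrime qb) (incl x) ∈
        (Ideal.span (s : Set Bb)).map (algebraMap Bb (Localization.AtPrime qb)) := by
      rw [Ideal.map_span, ← hsgen]
      exact Ideal.mem_map_of_mem _ (show π (incl x) = 0 by rw [hπi]; exact hx)
    rw [IsLocalization.algebraMap_mem_map_algebraMap_iff qb.primeCompl] at hx'
    obtain ⟨t', ht', htx⟩ := hx'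
    obtain ⟨c, -, hc⟩ := Submodule.mem_span_finset.mp htx
    refine ⟨σ t', fun hh => ht' ?_, fun z => σ (c z), ker_includeRight_le hA _ ?_⟩
    · have := (hqb (σ t')).mpr hh
      rwa [hσ] at this
    show incl _ = 0
    rw [map_sub, map_mul, map_sum, hσ, ← hc, sub_eq_zero]
    exact Finset.sum_congr rfl fun z _ => by rw [map_mul, hσ, hσ, smul_eq_mul]
  -- each lift lies in `H + q N` up to a unit
  have hstep : ∀ z ∈ s, ∃ u ∉ q, u * σ z ∈ H ⊔ q * N := by
    intro z hz
    obtain ⟨lam, hlam⟩ := (Submodule.mem_span_range_iff_exists_fun K).mp (hW _ (hσJ z hz))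
    have hfrac : ∀ i, ∃ a d : B, d ∉ q ∧ lam i * algebraMap B K d = algebraMap B K a := fun i => by
      obtain ⟨a, d, hd, had⟩ := IsFractionRing.div_surjective (B ⧸ q) (lam i)
      obtain ⟨a, rfl⟩ := Ideal.Quotient.mk_surjective a
      obtain ⟨d, rfl⟩ := Ideal.Quotient.mk_surjective d
      have hd' : d ∉ q := fun hh => nonZeroDivisors.ne_zero hd (Ideal.Quotient.eq_zero_iff_mem.mpr hh)
      refine ⟨a, d, hd', ?_⟩
      have hdne : algebraMap B K d ≠ 0 := fun hh => hd' (Ideal.algebraMap_residueField_eq_zero.mp hh)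
      rw [← had]
      exact div_mul_cancel₀ _ hdne
    choose a d hd had using hfrac
    let u := ∏ i, d i
    let a' : Fin r → B := fun i => a i * ∏ j ∈ Finset.univ.erase i, d j
    have hu : u ∉ q := fun hh => by
      obtain ⟨i, -, hi⟩ := Ideal.IsPrime.prod_mem_iff.mp hh
      exact hd i hi
    let y := u * σ z - ∑ i, a' i * h i
    have hyJ : y ∈ J := J.sub_mem (J.mul_mem_left _ (hσJ z hz)) (J.sum_mem fun i _ => J.mul_mem_left _ (hh i))
    have hy : dV A K y = 0 := by
      have h1 : dV A K y = algebraMap B K u • dV A K (σ z) - ∑ i, algebraMap B K (a' i) • dV A K (h i) := by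
        simp only [y, dV, map_sub, map_sum, tmul_sub, tmul_sum]
        congr 1
        · exact dV_mul_of_eq_zero A K _ _ (hJK _ (hσJ z hz))
        · exact Finset.sum_congr rfl fun i _ => dV_mul_of_eq_zero A K _ _ (hJK _ (hh i))
      rw [h1, ← hlam, Finset.smul_sum, sub_eq_zero]
      refine Finset.sum_congr rfl fun i _ => ?_
      rw [smul_smul]
      congr 1
      rw [map_mul, ← had i, mul_comm (lam i), mul_assoc, mul_comm (lam i), ← mul_assoc, ← map_mul,
        Finset.mul_prod_erase _ _ (Finset.mem_univ i)]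
    obtain ⟨t, ht, c, hc⟩ := hgenJ y hyJ
    have hcz : ∀ w ∈ s, c w ∈ q := by
      have h1 : incl (t * y) = ∑ w ∈ s, incl (c w) * w := by
        have h2 : incl (t * y - ∑ w ∈ s, c w * σ w) = 0 := by
          have h3 : IB ≤ RingHom.ker incl.toRingHom := Ideal.map_le_iff_le_comap.mpr fun i hi => by
            show incl (algebraMap A B i) = 0
            rw [incl.commutes, Algebra.TensorProduct.algebraMap_apply, RingHom.mem_ker.mp hi, zero_tmul]
          exact h3 hc
        rw [map_sub, map_sum, sub_eq_zero] at h2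
        rw [h2]
        exact Finset.sum_congr rfl fun w _ => by rw [map_mul, hσ]
      have h4 : dV A K (t * y) = 0 := by rw [dV_mul_of_eq_zero A K t y (hJK y hyJ), hy, smul_zero]
      have h5 : (1 : K') ⊗ₜ[Bb] KaehlerDifferential.D A' Bb (∑ w ∈ s, incl (c w) * w) = 0 := by
        rw [← h1, ← hΦ, h4, map_zero]
      have hwq : ∀ w ∈ s, algebraMap Bb K' w = 0 := fun w hw =>
        Ideal.algebraMap_residueField_eq_zero.mpr (show Ideal.Quotient.mk Jb w ∈ P from by
          rw [Ideal.Quotient.eq_zero_iff_mem.mpr (hsJ hw)]; exact zero_mem P)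
      have h6 : ∑ w : ↥s, algebraMap Bb K' (incl (c w)) •
          ((1 : K') ⊗ₜ[Bb] KaehlerDifferential.D A' Bb (w : Bb)) = 0 := by
        rw [map_sum, tmul_sum] at h5
        rw [Finset.univ_eq_attach, Finset.sum_attach s
          (fun w => algebraMap Bb K' (incl (c w)) • ((1 : K') ⊗ₜ[Bb] KaehlerDifferential.D A' Bb w)), ← h5]
        exact Finset.sum_congr rfl fun w hw => (dV_mul_of_eq_zero A' K' (incl (c w)) w (hwq w hw)).symm
      intro w hw
      exact (hqb _).mp (Ideal.algebraMap_residueField_eq_zero.mp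
        (Fintype.linearIndependent_iff.mp hsli _ h6 ⟨w, hw⟩))
    refine ⟨t * u, fun hh => (Ideal.IsPrime.mem_or_mem inferInstance hh).elim ht hu, ?_⟩
    have h7 : t * u * σ z = (t * ∑ i, a' i * h i) + ((t * y - ∑ w ∈ s, c w * σ w) + ∑ w ∈ s, c w * σ w) := by
      simp only [y]
      ring
    rw [h7]
    refine add_mem ?_ (add_mem ?_ ?_)
    · exact Ideal.mem_sup_left (Ideal.mem_sup_left (Ideal.mul_mem_left _ _
        (Ideal.sum_mem _ fun i _ => Ideal.mul_mem_left _ _ (Ideal.subset_span (Set.mem_range_self i)))))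
    · exact Ideal.mem_sup_left (Ideal.mem_sup_right hc)
    · exact Ideal.mem_sup_right (Ideal.sum_mem _ fun w hw =>
        Ideal.mul_mem_mul (hcz w hw) (Ideal.subset_span ⟨w, hw, rfl⟩))
  -- Nakayama in the local ring
  let L := Localization.AtPrime q
  have hNfg : (N.map (algebraMap B L)).FG :=
    Ideal.FG.map ⟨s.image σ, by rw [Finset.coe_image]⟩ _
  have hle : N.map (algebraMap B L) ≤ H.map (algebraMap B L) := by
    refine Submodule.le_of_le_smul_of_le_jacobson_bot hNfg
      (IsLocalRing.maximalIdeal_le_jacobson (R := L) ⊥) ?_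
    rw [Ideal.map_le_iff_le_comap]
    refine Ideal.span_le.mpr ?_
    rintro _ ⟨z, hz, rfl⟩
    obtain ⟨u, hu, huz⟩ := hstep z hz
    have h1 : algebraMap B L (u * σ z) ∈
        H.map (algebraMap B L) ⊔ IsLocalRing.maximalIdeal L * N.map (algebraMap B L) := by
      have h2 := Ideal.mem_map_of_mem (algebraMap B L) huz
      rw [Ideal.map_sup, Ideal.map_mul] at h2
      rw [← Localization.AtPrime.map_eq_maximalIdeal]
      exact h2
    rw [map_mul] at h1
    exact (Ideal.unit_mul_mem_iff_mem _
      (IsLocalization.map_units L (⟨u, hu⟩ : q.primeCompl))).mp h1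
  have hloc : ∀ x ∈ J, ∃ t ∉ q, t * x ∈ H := by
    intro x hx
    obtain ⟨t, ht, c, hc⟩ := hgenJ x hx
    have h1 : algebraMap B L (t * x) ∈ H.map (algebraMap B L) := by
      have h2 : t * x = (t * x - ∑ z ∈ s, c z * σ z) + ∑ z ∈ s, c z * σ z := by ring
      rw [h2, map_add]
      exact add_mem (Ideal.mem_map_of_mem _ (Ideal.mem_sup_right hc))
        (hle (Ideal.mem_map_of_mem _ (Ideal.sum_mem _ fun z hz =>
          Ideal.mul_mem_left _ _ (Ideal.subset_span ⟨z, hz, rfl⟩))))
    rw [IsLocalization.algebraMap_mem_map_algebraMap_iff q.primeCompl] at h1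
    obtain ⟨t', ht', h3⟩ := h1
    exact ⟨t' * t, fun hh => (Ideal.IsPrime.mem_or_mem inferInstance hh).elim ht' ht, by rwa [mul_assoc]⟩
  -- a common denominator
  obtain ⟨G, hG⟩ := hJfg
  have hG' : ∀ z ∈ G, ∃ t ∉ q, t * σ z ∈ H := fun z hz => hloc _ (by
    show algebraMap B C (σ z) = 0
    rw [← hπi, hσ]
    exact hG.le (Submodule.subset_span hz))
  choose! t ht htH using hG'
  refine ⟨∏ z ∈ G, t z, fun hh => ?_, fun x hx => ?_⟩
  · obtain ⟨z, hz, hzq⟩ := Ideal.IsPrime.prod_mem_iff.mp hh
    exact ht z hz hzq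
  have hx' : incl x ∈ Ideal.span (G : Set Bb) := by
    rw [show Ideal.span (G : Set Bb) = RingHom.ker π.toRingHom from hG]
    show π (incl x) = 0
    rw [hπi]
    exact hx
  obtain ⟨c, -, hc⟩ := Submodule.mem_span_finset.mp hx'
  have h1 : x - ∑ z ∈ G, σ (c z) * σ z ∈ IB := ker_includeRight_le hA _ (by
    show incl _ = 0
    rw [map_sub, map_sum, ← hc, sub_eq_zero]
    exact Finset.sum_congr rfl fun z _ => by rw [map_mul, hσ, hσ, smul_eq_mul])
  have h2 : x = (x - ∑ z ∈ G, σ (c z) * σ z) + ∑ z ∈ G, σ (c z) * σ z := by ring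
  rw [h2, mul_add, Finset.mul_sum]
  refine add_mem (Ideal.mem_sup_right (Ideal.mul_mem_left _ _ h1)) (Ideal.sum_mem _ fun z hz => ?_)
  obtain ⟨w, hw⟩ := Finset.dvd_prod_of_mem t hz
  rw [hw, show t z * w * (σ (c z) * σ z) = w * σ (c z) * (t z * σ z) by ring]
  exact Ideal.mul_mem_left _ _ (htH z hz)

end SmClLiftLib
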