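import Groth.Agent.SmClLiftLib.Alg
import Groth.Agent.ChevLib.Basic
import Groth.Agent.BlowRegLib.FiniteFibre
import Mathlib.AlgebraicGeometry.IdealSheaf.Functorial
import Mathlib.AlgebraicGeometry.Morphisms.Smooth

/-!
# Lifting a smooth closed subscheme to a smooth one near finitely many points
-/

set_option autoImplicit false
set_option linter.style.haveILetI false
set_option backward.isDefEq.respectTransparency false
universe u

open CategoryTheory CategoryTheory.Limits AlgebraicGeometry TopologicalSpace Opposite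
open scoped TensorProduct

noncomputable section

namespace SmClLiftLib

/-- An element of an ideal outside a prime lying in all other primes of an antichain. -/
theorem exists_separating {B : Type u} [CommRing B] (S : Finset (Ideal B)) (hS : ∀ P ∈ S, P.IsPrime)
    (hmax : ∀ P ∈ S, ∀ Q ∈ S, Q ≤ P → Q = P) (J : Ideal B) {P : Ideal B} (hP : P ∈ S) (hJ : ¬ J ≤ P) :
    ∃ c ∈ J, c ∉ P ∧ ∀ Q ∈ S, Q ≠ P → c ∈ Q := by
  classical
  haveI := hS P hP
  obtain ⟨j, hj, hjP⟩ := SetLike.not_le_iff_exists.mp hJ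
  have h : ∀ Q ∈ S.erase P, ∃ x ∈ Q, x ∉ P := fun Q hQ => by
    obtain ⟨hne, hQS⟩ := Finset.mem_erase.mp hQ
    exact SetLike.not_le_iff_exists.mp fun hle => hne (hmax P hP Q hQS hle)
  choose! x hx hxP using h
  refine ⟨j * ∏ Q ∈ S.erase P, x Q, J.mul_mem_right _ hj, fun hmem => ?_, fun Q hQ hne => ?_⟩
  · rcases Ideal.IsPrime.mem_or_mem inferInstance hmem with h | h
    · exact hjP h
    · obtain ⟨Q, hQ, hxQ⟩ := Ideal.IsPrime.prod_mem_iff.mp h
      exact hxP Q hQ hxQ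
  · have hQ' : Q ∈ S.erase P := Finset.mem_erase.mpr ⟨hne, hQ⟩
    obtain ⟨w, hw⟩ := Finset.dvd_prod_of_mem x hQ'
    rw [hw]
    exact Q.mul_mem_left _ (Q.mul_mem_right _ (hx Q hQ'))

/-- The maximal elements of a finite set of ideals. -/
theorem exists_antichain {B : Type u} [CommRing B] (S : Finset (Ideal B)) :
    ∃ M : Finset (Ideal B), M ⊆ S ∧ (∀ P ∈ M, ∀ Q ∈ M, Q ≤ P → Q = P) ∧ ∀ P ∈ S, ∃ Q ∈ M, P ≤ Q := by
  classical
  refine ⟨S.filter fun P => ∀ Q ∈ S, P ≤ Q → P = Q, Finset.filter_subset _ _, fun P hP Q hQ hle => ?_,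
    fun P hP => ?_⟩
  · exact (Finset.mem_filter.mp hQ).2 P (Finset.mem_filter.mp hP).1 hle
  · obtain ⟨Q, hle, hQ⟩ := S.exists_le_maximal hP
    exact ⟨Q, Finset.mem_filter.mpr ⟨hQ.1, fun R hR hQR => le_antisymm hQR (hQ.2 hR hQR)⟩, hle⟩

/-- Moving an element away from finitely many primes by an element of an ideal contained in none of them. -/
theorem exists_add_notMem {B : Type u} [CommRing B] (S : Finset (Ideal B)) (hS : ∀ P ∈ S, P.IsPrime)
    (J : Ideal B) (hJ : ∀ P ∈ S, ¬ J ≤ P) (x : B) :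
    ∃ δ ∈ J, ∀ P ∈ S, x + δ ∉ P := by
  classical
  obtain ⟨M, hMS, hM, hSM⟩ := exists_antichain S
  have h := fun P (hP : P ∈ M) =>
    exists_separating M (fun Q hQ => hS Q (hMS hQ)) hM J hP (hJ P (hMS hP))
  choose! c hcJ hcP hcQ using h
  refine ⟨∑ P ∈ M.filter (fun P => x ∈ P), c P,
    J.sum_mem fun P hP => hcJ P (Finset.mem_filter.mp hP).1, ?_⟩
  have key : ∀ Q ∈ M, x + ∑ P ∈ M.filter (fun P => x ∈ P), c P ∉ Q := by
    intro Q hQ hmem
    by_cases hx : x ∈ Q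
    · rw [Ideal.add_mem_iff_right Q hx, ← Finset.add_sum_erase _ _ (Finset.mem_filter.mpr ⟨hQ, hx⟩)] at hmem
      refine hcP Q hQ ((Ideal.add_mem_iff_left Q ?_).mp hmem)
      exact Q.sum_mem fun P hP => hcQ P (Finset.mem_filter.mp (Finset.mem_of_mem_erase hP)).1 Q hQ
        (Finset.ne_of_mem_erase hP).symm
    · refine hx ((Ideal.add_mem_iff_left Q ?_).mp hmem)
      exact Q.sum_mem fun P hP => hcQ P (Finset.mem_filter.mp hP).1 Q hQ
        fun he => hx (he ▸ (Finset.mem_filter.mp hP).2)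
  intro P hP hmem
  obtain ⟨Q, hQ, hle⟩ := hSM P hP
  exact key Q hQ (hle hmem)

variable {X : Scheme.{u}}

/-- Sections over an open as sections of the open subscheme. -/
abbrev τ (D : X.Opens) : Γ(X, D) ⟶ Γ((D : Scheme.{u}), ⊤) :=
  D.ι.appLE D ⊤ (by simp)

theorem τ_bijective (D : X.Opens) : Function.Bijective (τ D).hom := by
  haveI : IsIso (τ D) := by
    have h0 := D.ι_image_top
    have : (homOfLE (X := X.Opens) (show D.ι ''ᵁ ⊤ ≤ D from h0.le)) = eqToHom h0 := Subsingleton.elim _ _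
    simp only [τ, Scheme.Opens.ι_appLE, this, eqToHom_op, eqToHom_map]
    exact ⟨eqToHom (by show Γ(X, D.ι ''ᵁ ⊤) = _; rw [h0]), eqToHom_trans _ _, eqToHom_trans _ _⟩
  exact ConcreteCategory.bijective_of_isIso _

theorem τ_homOfLE {D V : X.Opens} (hDV : D ≤ V) :
    τ V ≫ (X.homOfLE hDV).appTop = X.presheaf.map (homOfLE hDV).op ≫ τ D := by
  rw [τ, τ, Scheme.Hom.appTop, Scheme.Hom.app_eq_appLE, Scheme.Hom.appLE_comp_appLE,
    Scheme.Hom.map_appLE]
  congr 1
  simp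

/-- Two ideal sheaves agreeing on the members of an open cover are equal. -/
theorem idealSheaf_ext {U : Scheme.{u}} {ι : Type*} {D : ι → Scheme.{u}} [∀ i, IsAffine (D i)]
    (d : ∀ i, D i ⟶ U) [∀ i, IsOpenImmersion (d i)] (hcov : ∀ x : U, ∃ i, x ∈ Set.range (d i).base)
    (I J : U.IdealSheafData) (h : ∀ i, I.comap (d i) = J.comap (d i)) : I = J := by
  refine Scheme.IdealSheafData.ext_of_iSup_eq_top
    (fun i => (⟨d i ''ᵁ ⊤, (isAffineOpen_top (D i)).image_of_isOpenImmersion (d i)⟩ : U.affineOpens)) ?_ ?_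
  · refine eq_top_iff.mpr fun x _ => ?_
    obtain ⟨i, y, hy⟩ := hcov x
    exact TopologicalSpace.Opens.mem_iSup.mpr ⟨i, ⟨y, trivial, hy⟩⟩
  · intro i
    have h1 := congrArg (fun K : (D i).IdealSheafData => K.ideal ⟨⊤, isAffineOpen_top (D i)⟩) (h i)
    simp only [Scheme.IdealSheafData.ideal_comap_of_isOpenImmersion] at h1
    exact Ideal.comap_injective_of_surjective _
      (ConcreteCategory.bijective_of_isIso ((d i).appIso ⊤).inv).2 h1

/-- The kernel of a base change of a closed immersion. -/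
theorem ker_of_isPullback {P Y Z S : Scheme.{u}} {a : P ⟶ Y} {b : P ⟶ Z} {f : Y ⟶ S} {i : Z ⟶ S}
    [IsClosedImmersion i] (h : IsPullback a b f i) : a.ker = i.ker.comap f := by
  rw [← Scheme.IdealSheafData.ker_fst_of_isClosedImmersion, ← h.isoPullback_hom_fst,
    Scheme.Hom.ker_comp_of_isIso]

/-- A factorization through a monomorphism is a base change. -/
theorem isPullback_of_mono {Z W U : Scheme.{u}} {j : Z ⟶ U} {k : W ⟶ U} [Mono k] {m : Z ⟶ W}
    (h : m ≫ k = j) : IsPullback m (𝟙 Z) k j :=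
  IsPullback.of_isLimit' ⟨by rw [Category.id_comp, h]⟩
    (PullbackCone.IsLimit.mk _ (fun s => s.snd)
      (fun s => by rw [← cancel_mono k, Category.assoc, h, s.condition])
      (fun s => Category.comp_id _)
      (fun s l _ hl => by rw [← hl]; exact (Category.comp_id l).symm))

section Local

variable {X₁ X₂ Z₁ Z₂ : Scheme.{u}} (i₁ : Z₁ ⟶ X₁) (i₂ : Z₂ ⟶ X₂)
  [IsClosedImmersion i₁] [IsClosedImmersion i₂]
  (f : X₂ ⟶ X₁) (g : Z₂ ⟶ Z₁) (V : X₂.Opens)

/-- The ideal sheaf on `V` of a family of sections. -/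
def hSheaf (hV : IsAffineOpen V) {c : ℕ} (h : Fin c → Γ(X₂, V)) : (V : Scheme.{u}).IdealSheafData :=
  haveI : IsAffine (V : Scheme.{u}) := hV
  Scheme.IdealSheafData.ofIdealTop ((Ideal.span (Set.range h)).map (τ V).hom)

theorem hSheaf_comap (hV : IsAffineOpen V) {c : ℕ} (h : Fin c → Γ(X₂, V)) {D : X₂.Opens}
    (hD : IsAffineOpen D) (hDV : D ≤ V) :
    ((hSheaf V hV h).comap (X₂.homOfLE hDV)).ideal
        (⟨⊤, (show IsAffineOpen (⊤ : (D : Scheme.{u}).Opens) from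
          haveI : IsAffine (D : Scheme.{u}) := hD; isAffineOpen_top _)⟩) =
      ((Ideal.span (Set.range h)).map (X₂.presheaf.map (homOfLE hDV).op).hom).map (τ D).hom := by
  haveI : IsAffine (V : Scheme.{u}) := hV
  haveI : IsAffine (D : Scheme.{u}) := hD
  rw [ChevLib.ideal_comap_top_of_isAffine]
  simp only [hSheaf, Scheme.IdealSheafData.ofIdealTop_ideal, homOfLE_refl, op_id, CategoryTheory.Functor.map_id,
    CommRingCat.hom_id, Ideal.map_map, RingHom.id_comp, ← CommRingCat.hom_comp, τ_homOfLE]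

/-- The smoothness of the closed subscheme over an open of `V`. -/
def SmoothOn (hV : IsAffineOpen V) {c : ℕ} (h : Fin c → Γ(X₂, V)) {D : X₂.Opens} (hDV : D ≤ V) : Prop :=
  Smooth (((hSheaf V hV h).comap (X₂.homOfLE hDV)).subschemeι ≫ D.ι ≫ f)

theorem SmoothOn.mono {hV : IsAffineOpen V} {c : ℕ} {h : Fin c → Γ(X₂, V)} {D D' : X₂.Opens}
    {hDV : D ≤ V} (hs : SmoothOn f V hV h hDV) (hD : D' ≤ D) :
    SmoothOn f V hV h (hD.trans hDV) := by
  unfold SmoothOn at hs ⊢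
  let H := (hSheaf V hV h).comap (X₂.homOfLE hDV)
  have h1 : (hSheaf V hV h).comap (X₂.homOfLE (hD.trans hDV)) = H.comap (X₂.homOfLE hD) := by
    rw [← Scheme.IdealSheafData.comap_comp, Scheme.homOfLE_homOfLE]
  rw [h1, ← Scheme.IdealSheafData.comapIso_hom_fst H (X₂.homOfLE hD)]
  haveI := hs
  have h2 : pullback.fst (X₂.homOfLE hD) H.subschemeι ≫ D'.ι ≫ f =
      pullback.snd (X₂.homOfLE hD) H.subschemeι ≫ (H.subschemeι ≫ D.ι ≫ f) := by
    rw [← pullback.condition_assoc, Scheme.homOfLE_ι_assoc]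
  rw [Category.assoc, h2]
  infer_instance

/-- The two descriptions of the closed subscheme agree over an open of `V`. -/
def EqOn (hV : IsAffineOpen V) {c : ℕ} (h : Fin c → Γ(X₂, V)) {D : X₂.Opens} (hDV : D ≤ V) : Prop :=
  i₂.ker.comap D.ι = (hSheaf V hV h).comap (X₂.homOfLE hDV) ⊔ i₁.ker.comap (D.ι ≫ f)

/-- Where a section of the family is invertible, everything is empty. -/
theorem good_basicOpen (hV : IsAffineOpen V) {c : ℕ} (h : Fin c → Γ(X₂, V))
    (hh : ∀ j, h j ∈ RingHom.ker (i₂.app V).hom) (j : Fin c) :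
    SmoothOn f V hV h (X₂.basicOpen_le (h j)) ∧ EqOn i₁ i₂ f V hV h (X₂.basicOpen_le (h j)) := by
  let D := X₂.basicOpen (h j)
  have hD : IsAffineOpen D := hV.basicOpen _
  haveI : IsAffine (D : Scheme.{u}) := hD
  have hu : IsUnit (τ D (X₂.presheaf.map (homOfLE (X₂.basicOpen_le (h j))).op (h j))) :=
    (RingedSpace.isUnit_res_basicOpen X₂.toLocallyRingedSpace.toRingedSpace (h j)).map (τ D).hom
  have htop : (hSheaf V hV h).comap (X₂.homOfLE (X₂.basicOpen_le (h j))) = ⊤ := by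
    apply Scheme.IdealSheafData.ext_of_isAffine
    rw [hSheaf_comap V hV h hD, Scheme.IdealSheafData.ideal_top, Pi.top_apply]
    exact Ideal.eq_top_of_isUnit_mem _
      (Ideal.mem_map_of_mem _ (Ideal.mem_map_of_mem _ (Ideal.subset_span (Set.mem_range_self j)))) hu
  refine ⟨?_, ?_⟩
  · unfold SmoothOn
    rw [htop]
    infer_instance
  · unfold EqOn
    rw [htop, top_sup_eq]
    apply Scheme.IdealSheafData.ext_of_isAffine
    rw [ChevLib.ideal_comap_openImmersion_top i₂.ker D.ι ⟨D, hD⟩ (by simp), Scheme.IdealSheafData.ideal_top,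
      Pi.top_apply]
    refine Ideal.eq_top_of_isUnit_mem _ ?_ hu
    refine Ideal.mem_map_of_mem _ ?_
    rw [← i₂.ker.map_ideal (U := ⟨D, hD⟩) (V := ⟨V, hV⟩) (X₂.basicOpen_le (h j))]
    refine Ideal.mem_map_of_mem _ ?_
    rw [Scheme.Hom.ker_apply]
    exact hh j

variable [Smooth f] [Smooth g] (hsq : i₂ ≫ f = g ≫ i₁)

include hsq in
/-- Near a point of the closed subscheme, elements of the ideal whose differentials form a basis cut out
a smooth lift. -/
theorem good_at_point (hV : IsAffineOpen V) {c : ℕ} (h : Fin c → Γ(X₂, V))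
    (hh : ∀ j, h j ∈ RingHom.ker (i₂.app V).hom)
    (U₁ : X₁.Opens) (hU₁ : IsAffineOpen U₁) (U₂ : X₂.Opens) (hU₂ : IsAffineOpen U₂) (h2V : U₂ ≤ V)
    (e : U₂ ≤ f ⁻¹ᵁ U₁) (t : X₂) (ht : t ∈ U₂) (htr : t ∈ Set.range i₂.base)
    (hli : letI := (f.appLE U₁ U₂ e).hom.toAlgebra
      LinearIndependent (hU₂.primeIdealOf ⟨t, ht⟩).asIdeal.ResidueField fun j =>
        dV Γ(X₁, U₁) (hU₂.primeIdealOf ⟨t, ht⟩).asIdeal.ResidueField (X₂.presheaf.map (homOfLE h2V).op (h j)))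
    (hW : letI := (f.appLE U₁ U₂ e).hom.toAlgebra
      ∀ x ∈ RingHom.ker (i₂.app U₂).hom,
        dV Γ(X₁, U₁) (hU₂.primeIdealOf ⟨t, ht⟩).asIdeal.ResidueField x ∈
          Submodule.span (hU₂.primeIdealOf ⟨t, ht⟩).asIdeal.ResidueField (Set.range fun j =>
            dV Γ(X₁, U₁) (hU₂.primeIdealOf ⟨t, ht⟩).asIdeal.ResidueField
              (X₂.presheaf.map (homOfLE h2V).op (h j)))) :
    ∃ D : X₂.Opens, t ∈ D ∧ IsAffineOpen D ∧
      ∃ hDV : D ≤ V, SmoothOn f V hV h hDV ∧ EqOn i₁ i₂ f V hV h hDV := by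
  let A := Γ(X₁, U₁)
  let B := Γ(X₂, U₂)
  have eZ : i₂ ⁻¹ᵁ U₂ ≤ g ⁻¹ᵁ (i₁ ⁻¹ᵁ U₁) := fun z hz => by
    show (g ≫ i₁).base z ∈ U₁
    rw [← hsq]
    exact e hz
  let A' := Γ(Z₁, i₁ ⁻¹ᵁ U₁)
  let C := Γ(Z₂, i₂ ⁻¹ᵁ U₂)
  letI : Algebra A B := (f.appLE U₁ U₂ e).hom.toAlgebra
  letI : Algebra A A' := (i₁.app U₁).hom.toAlgebra
  letI : Algebra A' C := (g.appLE (i₁ ⁻¹ᵁ U₁) (i₂ ⁻¹ᵁ U₂) eZ).hom.toAlgebra
  letI : Algebra B C := (i₂.app U₂).hom.toAlgebra
  letI : Algebra A C := ((algebraMap A' C).comp (algebraMap A A')).toAlgebra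
  haveI : IsScalarTower A A' C := IsScalarTower.of_algebraMap_eq fun _ => rfl
  have hcomm : f.appLE U₁ U₂ e ≫ i₂.app U₂ = i₁.app U₁ ≫ g.appLE (i₁ ⁻¹ᵁ U₁) (i₂ ⁻¹ᵁ U₂) eZ := by
    rw [Scheme.Hom.app_eq_appLE, Scheme.Hom.app_eq_appLE, Scheme.Hom.appLE_comp_appLE,
      Scheme.Hom.appLE_comp_appLE]
    congr 1
  haveI : IsScalarTower A B C := IsScalarTower.of_algebraMap_eq' (congrArg CommRingCat.Hom.hom hcomm).symm
  haveI : Algebra.Smooth A B := f.smooth_appLE hU₁ hU₂ e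
  haveI : Algebra.Smooth A' C := g.smooth_appLE (hU₁.preimage i₁) (hU₂.preimage i₂) eZ
  have hA : Function.Surjective (algebraMap A A') := i₁.app_surjective U₁ hU₁
  have hB : Function.Surjective (algebraMap B C) := i₂.app_surjective U₂ hU₂
  let q := (hU₂.primeIdealOf ⟨t, ht⟩).asIdeal
  have hq : RingHom.ker (algebraMap B C) ≤ q := fun x hx => by
    rw [BlowRegLib.mem_primeIdealOf_iff]
    intro hxt
    obtain ⟨z, rfl⟩ := htr
    have hz : z ∈ i₂ ⁻¹ᵁ X₂.basicOpen x := hxt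
    rw [Scheme.preimage_basicOpen, show i₂.app U₂ x = 0 from hx, Scheme.basicOpen_zero] at hz
    exact hz
  let hB' : Fin c → B := fun j => X₂.presheaf.map (homOfLE h2V).op (h j)
  have hker : ∀ x, x ∈ RingHom.ker (algebraMap B C) ↔ x ∈ i₂.ker.ideal ⟨U₂, hU₂⟩ := fun x => by
    rw [Scheme.Hom.ker_apply]
    rfl
  have hhB : ∀ j, hB' j ∈ RingHom.ker (algebraMap B C) := fun j => by
    rw [hker, ← i₂.ker.map_ideal (U := ⟨U₂, hU₂⟩) (V := ⟨V, hV⟩) h2V]
    refine Ideal.mem_map_of_mem _ ?_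
    rw [Scheme.Hom.ker_apply]
    exact hh j
  obtain ⟨b, hb, hbmem⟩ := exists_mul_mem_span_sup hA hB q hq hB' hhB hW
  obtain ⟨a, ha, hsm⟩ := exists_smooth_quotient_span_range q c hB' hli
  -- the smooth open
  let D₁ := X₂.basicOpen a
  have hD₁ : IsAffineOpen D₁ := hU₂.basicOpen a
  have h1V : D₁ ≤ V := (X₂.basicOpen_le a).trans h2V
  have hsm₁ : SmoothOn f V hV h h1V := by
    unfold SmoothOn
    haveI : IsAffine (D₁ : Scheme.{u}) := hD₁
    haveI : IsAffine (U₁ : Scheme.{u}) := hU₁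
    have e1 : D₁ ≤ f ⁻¹ᵁ U₁ := (X₂.basicOpen_le a).trans e
    let σ := ((hSheaf V hV h).comap (X₂.homOfLE h1V)).subschemeι
    haveI : IsAffine ((hSheaf V hV h).comap (X₂.homOfLE h1V)).subscheme := isAffine_of_isAffineHom σ
    have hfac : σ ≫ D₁.ι ≫ f = (σ ≫ f.resLE U₁ D₁ e1) ≫ U₁.ι := by
      rw [Category.assoc, Scheme.Hom.resLE_comp_ι]
    suffices Smooth (σ ≫ f.resLE U₁ D₁ e1) by
      show Smooth (σ ≫ D₁.ι ≫ f)
      rw [hfac]
      infer_instance
    rw [HasRingHomProperty.iff_of_isAffine (P := @Smooth)]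
    let ρ₁ := X₂.presheaf.map (homOfLE (X₂.basicOpen_le a)).op
    letI : Algebra B Γ(X₂, D₁) := ρ₁.hom.toAlgebra
    haveI : IsLocalization.Away a Γ(X₂, D₁) := hU₂.isLocalization_basicOpen a
    let L := Localization.Away a
    let e0 : L ≃ₐ[B] Γ(X₂, D₁) := IsLocalization.algEquiv (Submonoid.powers a) L Γ(X₂, D₁)
    let Φ : L →+* Γ(((hSheaf V hV h).comap (X₂.homOfLE h1V)).subscheme, ⊤) :=
      (τ D₁ ≫ σ.appTop).hom.comp e0.toRingEquiv.toRingHom
    have hσs : Function.Surjective σ.appTop :=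
      σ.app_surjective ⊤ (isAffineOpen_top _)
    have hΦs : Function.Surjective Φ :=
      (hσs.comp (τ_bijective D₁).2).comp e0.surjective
    have hσk : RingHom.ker σ.appTop.hom =
        ((Ideal.span (Set.range h)).map (X₂.presheaf.map (homOfLE h1V).op).hom).map (τ D₁).hom := by
      rw [← hSheaf_comap V hV h hD₁ h1V]
      exact (Scheme.Hom.ker_apply σ ⟨⊤, isAffineOpen_top _⟩).symm.trans
        (congrArg (fun K : (D₁ : Scheme.{u}).IdealSheafData => K.ideal ⟨⊤, isAffineOpen_top _⟩)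
          (Scheme.IdealSheafData.ker_subschemeι _))
    have hres : ∀ j, X₂.presheaf.map (homOfLE h1V).op (h j) = ρ₁ (hB' j) := fun j => by
      simp only [ρ₁, hB', ← CommRingCat.comp_apply, ← Functor.map_comp, ← op_comp, homOfLE_comp]
      rfl
    have hΦk : RingHom.ker Φ = Ideal.span (Set.range fun j => algebraMap B L (hB' j)) := by
      rw [← RingHom.comap_ker, CommRingCat.hom_comp, ← RingHom.comap_ker, hσk,
        Ideal.comap_map_of_bijective _ (τ_bijective D₁), Ideal.map_span, ← Set.range_comp]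
      refine Eq.trans (Ideal.map_symm e0.toRingEquiv).symm ?_
      rw [Ideal.map_span, ← Set.range_comp]
      congr 2
      funext j
      show e0.symm (X₂.presheaf.map (homOfLE h1V).op (h j)) = algebraMap B L (hB' j)
      rw [hres, AlgEquiv.symm_apply_eq, AlgEquiv.commutes]
      rfl
    have hψ : (τ U₁ ≫ (σ ≫ f.resLE U₁ D₁ e1).appTop).hom = Φ.comp (algebraMap A L) := by
      have h1 : τ U₁ ≫ (f.resLE U₁ D₁ e1).appTop = f.appLE U₁ D₁ e1 ≫ τ D₁ := by
        simp only [τ, Scheme.Hom.appTop, Scheme.Hom.app_eq_appLE, Scheme.Hom.appLE_comp_appLE,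
          Scheme.Hom.resLE_comp_ι]
        rfl
      rw [Scheme.Hom.comp_appTop, ← Category.assoc, h1, Category.assoc]
      refine RingHom.ext fun x => ?_
      show (τ D₁ ≫ σ.appTop).hom (f.appLE U₁ D₁ e1 x) = (τ D₁ ≫ σ.appTop).hom (e0 (algebraMap A L x))
      congr 1
      rw [IsScalarTower.algebraMap_apply A B L, AlgEquiv.commutes]
      show f.appLE U₁ D₁ e1 x = ρ₁ (f.appLE U₁ U₂ e x)
      rw [← CommRingCat.comp_apply, Scheme.Hom.appLE_map]
    have hsmψ : (τ U₁ ≫ (σ ≫ f.resLE U₁ D₁ e1).appTop).hom.Smooth := by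
      rw [hψ]
      let E := RingHom.quotientKerEquivOfSurjective hΦs
      have h2 : Φ.comp (algebraMap A L) = E.toRingHom.comp
          ((Ideal.Quotient.mk (RingHom.ker Φ)).comp (algebraMap A L)) := RingHom.ext fun _ => rfl
      rw [h2]
      refine RingHom.Smooth.propertyIsLocal.respectsIso.1 _ E ?_
      rw [hΦk]
      exact (RingHom.smooth_algebraMap (R := A) (S := L ⧸ _)).mpr hsm
    haveI : IsIso (τ U₁) := (ConcreteCategory.isIso_iff_bijective _).mpr (τ_bijective U₁)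
    exact (RingHom.Smooth.propertyIsLocal.respectsIso.cancel_left_isIso (τ U₁) _).mp hsmψ
  -- the common open
  let D := X₂.basicOpen (a * b)
  have hD : IsAffineOpen D := hU₂.basicOpen _
  have hDle : D ≤ D₁ := by
    show X₂.basicOpen (a * b) ≤ X₂.basicOpen a
    rw [Scheme.basicOpen_mul]
    exact inf_le_left
  have htD : t ∈ D := by
    by_contra hcon
    have h3 : a * b ∈ q := (BlowRegLib.mem_primeIdealOf_iff hU₂ ht _).mpr hcon
    exact (Ideal.IsPrime.mem_or_mem inferInstance h3).elim ha hb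
  have hDV : D ≤ V := hDle.trans h1V
  refine ⟨D, htD, hD, hDV, hsm₁.mono f V hDle, ?_⟩
  -- the equality
  unfold EqOn
  haveI : IsAffine (D : Scheme.{u}) := hD
  haveI : IsAffine (U₁ : Scheme.{u}) := hU₁
  have eD : D ≤ f ⁻¹ᵁ U₁ := (X₂.basicOpen_le _).trans e
  apply Scheme.IdealSheafData.ext_of_isAffine
  rw [Scheme.IdealSheafData.ideal_sup, Pi.sup_apply, hSheaf_comap V hV h hD hDV,
    ChevLib.ideal_comap_openImmersion_top i₂.ker D.ι ⟨D, hD⟩ (by simp),
    show D.ι ≫ f = f.resLE U₁ D eD ≫ U₁.ι from (Scheme.Hom.resLE_comp_ι _ _).symm,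
    Scheme.IdealSheafData.comap_comp, ChevLib.ideal_comap_top_of_isAffine,
    ChevLib.ideal_comap_openImmersion_top i₁.ker U₁.ι ⟨U₁, hU₁⟩ (by simp), Ideal.map_map,
    ← CommRingCat.hom_comp]
  have h1 : U₁.ι.appLE U₁ ⊤ (by simp) ≫ (f.resLE U₁ D eD).appTop = f.appLE U₁ D eD ≫ τ D := by
    simp only [τ, Scheme.Hom.appTop, Scheme.Hom.app_eq_appLE, Scheme.Hom.appLE_comp_appLE,
      Scheme.Hom.resLE_comp_ι]
    rfl
  have h1' := congrArg (fun φ => Ideal.map (CommRingCat.Hom.hom φ) (i₁.ker.ideal ⟨U₁, hU₁⟩)) h1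
  simp only [CommRingCat.hom_comp, ← Ideal.map_map] at h1'
  erw [h1']
  rw [CommRingCat.hom_comp, ← Ideal.map_map, ← Ideal.map_sup]
  congr 1
  let ρ := X₂.presheaf.map (homOfLE (X₂.basicOpen_le (a * b))).op
  have hres : X₂.presheaf.map (homOfLE hDV).op = X₂.presheaf.map (homOfLE h2V).op ≫ ρ := by
    simp only [ρ, ← Functor.map_comp, ← op_comp, homOfLE_comp]
  have hfD : f.appLE U₁ D eD = f.appLE U₁ U₂ e ≫ ρ := (Scheme.Hom.appLE_map _ _ _).symm
  rw [← i₂.ker.map_ideal (U := ⟨D, hD⟩) (V := ⟨U₂, hU₂⟩) (X₂.basicOpen_le (a * b)), hres, hfD,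
    CommRingCat.hom_comp, CommRingCat.hom_comp, ← Ideal.map_map, ← Ideal.map_map, ← Ideal.map_sup,
    Scheme.Hom.ker_apply, Ideal.map_span, ← Set.range_comp, Scheme.Hom.ker_apply]
  refine le_antisymm (Ideal.map_le_iff_le_comap.mpr fun x hx => ?_) (Ideal.map_mono (sup_le ?_ ?_))
  · have h4 := Ideal.mem_map_of_mem ρ.hom (hbmem x hx)
    rw [map_mul] at h4
    have hu : IsUnit (ρ.hom b) :=
      isUnit_of_dvd_unit (map_dvd ρ.hom (Dvd.intro_left a rfl))
        (RingedSpace.isUnit_res_basicOpen X₂.toLocallyRingedSpace.toRingedSpace (a * b))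
    exact (Ideal.unit_mul_mem_iff_mem _ hu).mp h4
  · rw [Ideal.span_le]
    rintro _ ⟨j, rfl⟩
    exact hhB j
  · rw [Ideal.map_le_iff_le_comap]
    intro x hx
    show algebraMap B C (algebraMap A B x) = 0
    rw [← IsScalarTower.algebraMap_apply, IsScalarTower.algebraMap_apply A A' C,
      show algebraMap A A' x = 0 from hx, map_zero]

end Local

end SmClLiftLib
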